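import Groth.Agent.Lib.FibVA20.Lift
import Groth.Agent.Lib.FibVA11.Mono
import Groth.Agent.Lib.AmpSpread10.SemiLocal
import Groth.Agent.Lib.CurveMult.GGCurve
import Groth.Agent.Lib.Ample.Generation
import Groth.Prelude.Def_CurvBase
import Groth.Prelude.Def_Curv2

/-!
# Global generation from the fibres and the direct image
-/

set_option autoImplicit false
set_option linter.style.haveILetI false
set_option backward.isDefEq.respectTransparency false
set_option maxHeartbeats 1000000

universe u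

noncomputable section

open CategoryTheory CategoryTheory.Limits AlgebraicGeometry Opposite TopologicalSpace
open GrothLib.InvExt (mres fres IsGen)

namespace GrothLib.GGFlat29

open GrothLib.VA BCCoh

variable {X Y : Scheme.{u}} {L : X.Modules}

theorem exists_genAt_of_mem_span (hL : PicF.IsInvertible L) {ι : Type*} (s : ι → Γ(L, ⊤)) {W : X.Opens} {x : X}
    {v : Γ(L, W)} (hv : v ∈ Submodule.span Γ(X, W) (Set.range fun i => mres L (le_top : W ≤ ⊤) (s i))) :
    GenAt L v x → ∃ i, GenAt L (s i) x := by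
  induction hv using Submodule.span_induction with
  | mem w hw =>
    obtain ⟨i, rfl⟩ := hw
    exact fun h => ⟨i, ((genAt_mres _ _).1 h).2⟩
  | zero => exact fun h => absurd h (AmpSpread10.not_genAt_zero hL)
  | add a b _ _ ha hb => exact fun h => (genAt_add hL h).elim ha hb
  | smul r a _ ha => exact fun h => ha ((genAt_smul_iff hL r a).1 h).2

/-- A globally generated invertible module has a generating section at every point. -/
theorem exists_genAt (hL : PicF.IsInvertible L) (h : Curv2.IsGloballyGenerated L) (x : X) :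
    ∃ s : Γ(L, ⊤), GenAt L s x := by
  obtain ⟨ι, s, hs⟩ := CurveMult.spanned_of_isGloballyGenerated h
  obtain ⟨T, ε, hxT, hε⟩ := InvExt.exists_gen_nhd hL x
  obtain ⟨W, hW, hxW, hm⟩ := hs T ε x hxT
  obtain ⟨i, hi⟩ := exists_genAt_of_mem_span hL s hm ((genAt_mres hW ε).2
    ⟨hxW, T, le_rfl, hxT, by rwa [InvExt.mres_self]⟩)
  exact ⟨s i, hi⟩

theorem exists_genAt_of_mem_span_push (hL : PicF.IsInvertible L) (f : X ⟶ Y) {ι : Type*}
    (s : ι → Γ((Scheme.Modules.pushforward f).obj L, ⊤)) {W : Y.Opens} {x : X}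
    {v : Γ((Scheme.Modules.pushforward f).obj L, W)}
    (hv : v ∈ Submodule.span Γ(Y, W) (Set.range fun i => mres _ (le_top : W ≤ ⊤) (s i))) :
    GenAt L (show Γ(L, f ⁻¹ᵁ W) from v) x → ∃ t : Γ(L, ⊤), GenAt L t x := by
  induction hv using Submodule.span_induction with
  | mem w hw =>
    obtain ⟨i, rfl⟩ := hw
    exact fun h => ⟨s i, ((genAt_mres (L := L) (f.preimage_mono (le_top : W ≤ ⊤)) (s i)).1 h).2⟩
  | zero => exact fun h => absurd h (AmpSpread10.not_genAt_zero hL)
  | add a b _ _ ha hb => exact fun h => (genAt_add hL h).elim ha hb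
  | smul r a _ ha =>
    intro h
    rw [QCoh.pushforward_smul] at h
    exact ha ((genAt_smul_iff hL _ _).1 h).2

/-- **Global generation**: from generated fibres, vanishing of their first cohomology and a generated direct image. -/
theorem isGloballyGenerated [CompactSpace X] (f : X ⟶ Y) [IsProper f] [Flat f] [IsLocallyNoetherian Y]
    (hL : PicF.IsInvertible L)
    (h1 : ∀ y : Y, IsClosed ({y} : Set Y) →
      Subsingleton (Coh.HH (f.fiber y) ((Scheme.Modules.pullback (f.fiberι y)).obj L) 1))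
    (h2 : ∀ y : Y, IsClosed ({y} : Set Y) →
      Curv2.IsGloballyGenerated ((Scheme.Modules.pullback (f.fiberι y)).obj L))
    (h3 : Curv2.IsGloballyGenerated ((Scheme.Modules.pushforward f).obj L)) :
    Curv2.IsGloballyGenerated L := by
  obtain ⟨ι, s, hs⟩ := CurveMult.spanned_of_isGloballyGenerated h3
  -- closed points
  have hcl : ∀ x : X, IsClosed ({x} : Set X) → ∃ t : Γ(L, ⊤), GenAt L t x := by
    intro x hx
    have hy : IsClosed ({f x} : Set Y) := by
      simpa [Set.image_singleton] using f.isClosedMap _ hx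
    have hLf := Ample.isInvertible_pullback (f.fiberι (f x)) hL
    obtain ⟨x', hx'⟩ := (f.range_fiberι (f x)).ge (Set.mem_singleton _)
    obtain ⟨t, ht⟩ := exists_genAt hLf (h2 _ hy) x'
    obtain ⟨W, hW, hyW, e, b, hb⟩ := FibVA20.exists_lift_section f L hL (f x) (h1 _ hy)
      (mres _ (le_top : f.fiberToSpecResidueField (f x) ⁻¹ᵁ ⊤ ≤ ⊤) t)
    have hg : x' ∈ genOpen ((Scheme.Modules.pullback (f.fiberι (f x))).obj L)
        (mres _ (le_top : f.fiberToSpecResidueField (f x) ⁻¹ᵁ ⊤ ≤ ⊤) t) :=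
      mem_genOpen.2 ((genAt_mres _ t).2 ⟨trivial, ht⟩)
    rw [← hb] at hg
    have hg' := ((FibVA11.mem_genOpen_pullRes (f.fiberι (f x)) hL e b).1 hg).2
    rw [hx'] at hg'
    obtain ⟨W₀, hW₀, hyW₀, hm⟩ := hs W b (f x) hyW
    exact exists_genAt_of_mem_span_push hL f s hm
      ((genAt_mres (L := L) (f.preimage_mono hW₀) b).2 ⟨hyW₀, mem_genOpen.1 hg'⟩)
  -- all points
  have hall : ∀ x : X, ∃ t : Γ(L, ⊤), GenAt L t x := by
    intro x
    by_contra hx
    let G : X.Opens := ⨆ t : Γ(L, ⊤), genOpen L t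
    have hne : ((G : Set X)ᶜ).Nonempty := ⟨x, fun hG => hx <| by
      simp only [G, SetLike.mem_coe, Opens.mem_iSup] at hG
      obtain ⟨t, ht⟩ := hG
      exact ⟨t, mem_genOpen.1 ht⟩⟩
    obtain ⟨z, hz, hzc⟩ := G.2.isClosed_compl.exists_closed_singleton hne
    obtain ⟨t, ht⟩ := hcl z hzc
    exact hz (Opens.mem_iSup.2 ⟨t, mem_genOpen.2 ht⟩)
  refine Ample.isGloballyGenerated_of_local L fun O m x hx => ?_
  obtain ⟨t, T, hT, hxT, hgen⟩ := hall x
  obtain ⟨c, hc⟩ := (hgen.restrict (inf_le_right : O ⊓ T ≤ T)).exists_smul_eq le_rfl (mres L inf_le_left m)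
  rw [InvExt.mres_self, InvExt.mres_mres] at hc
  exact ⟨O ⊓ T, inf_le_left, ⟨hx, hxT⟩, hc ▸ Submodule.smul_mem _ _ (Submodule.subset_span ⟨t, rfl⟩)⟩

end GrothLib.GGFlat29
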